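import Mathlib
import Cfsg.Agent.Lib.ChevOrth.Gen
import Cfsg.Agent.Lib.Orth.Forms
import Cfsg.Agent.Lib.Lie.AxOf
import Cfsg.Agent.S1054

/-!
`D₄(F) ≅ PΩ₈⁺(F)`, over any field.
-/

set_option autoImplicit false
set_option linter.unusedSectionVars false
set_option linter.unusedVariables false

namespace Cfsg.Agent.Lib.ChevOrth.D4

open Cfsg.Lie Matrix QuadraticMap Module
open Cfsg.Agent.Lib.OrthRefl.Eichler Cfsg.Agent.Lib.Classical.QuadEichler Cfsg.Agent.Lib.Witt.Quadratic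
open Cfsg.Agent.Lib.Orth.Forms Cfsg.Agent.Lib.Orth.Gram Cfsg.Agent.Lib.Orth.Refl
open Cfsg.Agent.Lib.ChevOrth.Hyp Cfsg.Agent.Lib.ChevOrth.Equi Cfsg.Agent.Lib.ChevOrth.Gen

/-- The coordinates. -/
abbrev I := Fin 4 ⊕ Fin 4

/-- The first vector of the pair of each root. -/
def aL : List I := [.inr 0, .inr 0, .inr 0, .inr 0, .inr 0, .inr 0, .inr 1, .inl 3, .inr 1, .inl 2, .inl 3, .inr 2, .inl 2, .inl 2, .inl 1, .inl 1, .inl 1, .inl 1, .inl 0, .inl 0, .inl 0, .inl 0, .inl 0, .inl 0]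

/-- The second vector of the pair of each root. -/
def bL : List I := [.inr 1, .inr 2, .inl 3, .inr 3, .inl 2, .inl 1, .inr 2, .inr 1, .inr 3, .inr 1, .inr 2, .inr 3, .inl 3, .inr 3, .inr 2, .inl 3, .inr 3, .inl 2, .inr 1, .inr 2, .inl 3, .inr 3, .inl 2, .inl 1]

/-- The sign of each root. -/
def sL : List ℤ := [-1, -1, -1, -1, 1, -1, 1, -1, 1, 1, 1, -1, 1, 1, 1, -1, -1, -1, 1, -1, 1, 1, 1, 1]

/-- The images of the fundamental coroots. -/
def hL : List (List (ℤ × I × I)) := [[(1, .inl 0, .inr 0), (-1, .inl 1, .inr 1)], [(1, .inl 1, .inr 1), (-1, .inl 2, .inr 2)], [(1, .inl 2, .inr 2), (-1, .inl 3, .inr 3)], [(1, .inl 2, .inr 2), (1, .inl 3, .inr 3)]]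

/-- The tables. -/
def T : Data chevD4 I where
  J u v := if v = Sum.swap u then 1 else 0
  qv _ := 0
  a r := aL.getD r (.inl 0)
  b r := bL.getD r (.inl 0)
  s r := sL.getD r 1
  pi c := if c < 24 then [(sL.getD c 1, aL.getD c (.inl 0), bL.getD c (.inl 0))] else hL.getD (c - 24) []

set_option maxRecDepth 100000 in
theorem chk : T.check = true := by decide +kernel

variable {F : Type*} [Field F]

theorem nroots_eq : chevD4.nroots = 24 := rfl

/-- The polar form on basis vectors. -/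
theorem polar_bv (u v : I) : polar (plusForm 4 F) (bv F u) (bv F v) = (T.J u v : F) := by
  have h1 : polar (plusForm 4 F) (bv F u) (bv F v) = hypMat (Fin 4) F u v := by
    rw [coe_plusForm, polar_quadFormPlus]
    simp [Matrix.mulVec_single_one]
  rw [h1]
  rcases u with i | i <;> rcases v with j | j <;>
    simp [T, Matrix.one_apply, eq_comm]

theorem Q_bv (u : I) : plusForm 4 F (bv F u) = 0 := by
  rw [coe_plusForm]
  rcases u with i | i <;> simp [quadFormPlus, Pi.single_apply]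

theorem good : Good chevD4 T (plusForm 4 F) where
  hJ := polar_bv
  hq u := by rw [Q_bv]; simp [T]
  hs r hr := by
    rw [nroots_eq] at hr
    revert r
    decide +kernel

theorem hp : HP (plusForm 4 F) (bv F (.inl 0 : I)) (bv F (.inr 0 : I)) (bv F (.inl 1 : I)) (bv F (.inr 1 : I)) where
  Qe₁ := Q_bv _
  Qf₁ := Q_bv _
  Qe₂ := Q_bv _
  Qf₂ := Q_bv _
  e₁f₁ := by rw [polar_bv]; simp [T]
  e₂f₂ := by rw [polar_bv]; simp [T]
  e₁e₂ := by rw [polar_bv]; simp [T]
  e₁f₂ := by rw [polar_bv]; simp [T]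
  f₁e₂ := by rw [polar_bv]; simp [T]
  f₁f₂ := by rw [polar_bv]; simp [T]

/-- The polar form with a basis vector. -/
theorem polar_right (v : I → F) (w : I) : polar (plusForm 4 F) v (bv F w) = v (Sum.swap w) := by
  rw [coe_plusForm, polar_quadFormPlus]
  simp only [Matrix.mulVec_single_one]
  rcases w with j | j <;>
    simp [dotProduct, Fintype.sum_sum_type, Matrix.one_apply]

/-- The singular basis vectors orthogonal to the first plane. -/
def S : Set (I → F) := {z | ∃ w : I, w ≠ .inl 0 ∧ w ≠ .inr 0 ∧ z = bv F w}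

theorem hS : ∀ z ∈ S (F := F), plusForm 4 F z = 0 ∧ polar (plusForm 4 F) z (bv F (.inl 0 : I)) = 0 ∧
    polar (plusForm 4 F) z (bv F (.inr 0 : I)) = 0 := by
  rintro z ⟨w, h1, h2, rfl⟩
  refine ⟨Q_bv _, ?_, ?_⟩
  · rw [polar_bv]
    have : T.J w (.inl 0) = 0 := by
      revert w; decide
    rw [this]; simp
  · rw [polar_bv]
    have : T.J w (.inr 0) = 0 := by
      revert w; decide
    rw [this]; simp

theorem good_v {v : I → F} (hv : v ≠ 0) : polar (plusForm 4 F) v (bv F (.inr 0 : I)) ≠ 0 ∨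
    polar (plusForm 4 F) v (bv F (.inl 0 : I)) ≠ 0 ∨ ∃ z ∈ S (F := F), polar (plusForm 4 F) v z ≠ 0 := by
  obtain ⟨u, hu⟩ : ∃ u, v u ≠ 0 := by
    by_contra h
    push Not at h
    exact hv (funext h)
  by_cases h1 : Sum.swap u = .inr 0
  · left
    rw [polar_right, ← h1, Sum.swap_swap]
    exact hu
  by_cases h2 : Sum.swap u = .inl 0
  · right; left
    rw [polar_right, ← h2, Sum.swap_swap]
    exact hu
  · right; right
    refine ⟨_, ⟨Sum.swap u, h2, h1, rfl⟩, ?_⟩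
    rw [polar_right, Sum.swap_swap]
    exact hu

theorem horb : ∀ v : I → F, v ≠ 0 → ∃ g ∈ eGroup (plusForm 4 F), g v = bv F (.inl 0 : I) + plusForm 4 F v • bv F (.inr 0 : I) := by
  intro v hv
  obtain ⟨g, hg, e⟩ := orbit (hp (F := F)) (S := S) hS ⟨_, by decide, by decide, rfl⟩ ⟨_, by decide, by decide, rfl⟩ (good_v hv)
  exact ⟨g, X₀_le_eGroup _ _ hg, e⟩

theorem J_zero (c d : I) (hd : d = Sum.swap c) : ∀ b, b ≠ d → polar (plusForm 4 F) (bv F c) (bv F b) = 0 := by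
  intro b hb
  rw [polar_bv]
  have : T.J c b = 0 := by
    show (if b = Sum.swap c then (1 : ℤ) else 0) = 0
    rw [if_neg (by rw [← hd]; exact hb)]
  rw [this]; simp

theorem root_e : ∀ b : I, b ≠ .inl 0 → b ≠ .inr 0 → ∃ r, r < chevD4.nroots ∧ T.a r = .inl 0 ∧ T.b r = b := by
  rw [nroots_eq]
  decide +kernel

theorem root_f : ∀ b : I, b ≠ .inr 0 → b ≠ .inl 0 → ∃ r, r < chevD4.nroots ∧ T.a r = .inr 0 ∧ T.b r = b := by
  rw [nroots_eq]
  decide +kernel

theorem eGroup_eq_root : eGroup (plusForm 4 F) = rootGroup T (plusForm 4 F) := by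
  apply le_antisymm _ rootGroup_le_eGroup
  rw [eGroup_eq_X₀ (hp (F := F)) (S := S) hS ⟨_, by decide, by decide, rfl⟩ ⟨_, by decide, by decide, rfl⟩
    (fun v _ hv => good_v hv), X₀, Subgroup.closure_le]
  rintro g ⟨b, hb | hb⟩
  · exact mem_rootGroup good (Q_bv _) (J_zero _ _ rfl) (by rw [polar_bv]; simp [T]) root_e hb
  · exact mem_rootGroup good (Q_bv _) (J_zero _ _ rfl) (by rw [polar_bv]; simp [T]) root_f hb

theorem pair_perp : ∀ r, r < chevD4.nroots → ∃ j : Fin 4, T.J (T.a r) (.inl j) = 0 ∧ T.J (T.a r) (.inr j) = 0 ∧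
    T.J (T.b r) (.inl j) = 0 ∧ T.J (T.b r) (.inr j) = 0 := by
  rw [nroots_eq]
  decide +kernel

theorem rootGroup_le_comm : rootGroup T (plusForm 4 F) ≤ ⁅isoGroup (plusForm 4 F), isoGroup (plusForm 4 F)⁆ := by
  rw [rootGroup, Subgroup.closure_le]
  rintro g ⟨r, hr, t, H⟩
  obtain ⟨j, h1, h2, h3, h4⟩ := pair_perp r hr
  set Q := plusForm 4 F with hQdef
  set z : I → F := bv F (.inl j) + bv F (.inr j) with hz
  have hc : ∀ (c d : ℤ), c = 0 → (c : F) = 0 ∧ (c + d : F) = d := by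
    intro c d hc
    subst hc
    simp
  have haz : polar Q (bv F (T.a r)) z = 0 := by
    rw [hz, polar_add_right, polar_bv, polar_bv, h1, h2]
    simp
  have hbz : polar Q (bv F (T.b r)) z = 0 := by
    rw [hz, polar_add_right, polar_bv, polar_bv, h3, h4]
    simp
  have hzQ : Q z = 1 := by
    rw [hz, Q_add, Q_bv, Q_bv, polar_bv]
    simp [T]
  set b' := ((T.s r : F) * t) • bv F (T.b r) with hb'
  have hb'z : polar Q b' z = 0 := by
    rw [hb', polar_smul_left, hbz, smul_zero]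
  have hb'Q : Q b' = 0 := by
    rw [hb', QuadraticMap.map_smul, Q_bv, smul_zero]
  have ha0 : bv F (T.a r) ≠ 0 := by
    intro h
    have := congrFun h (T.a r)
    simp at this
  obtain ⟨g₁, hg₁⟩ := exists_eAt (Q := Q) (a := bv F (T.a r)) (b := b' + z) H.Qa (by
    rw [polar_add_right, H.ab, haz, add_zero])
  obtain ⟨g₂, hg₂⟩ := exists_eAt (Q := Q) (a := bv F (T.a r)) (b := -z) H.Qa (by
    rw [polar_neg_right, haz, neg_zero])
  have h5 := hg₁.mul hg₂
  rw [add_neg_cancel_right] at h5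
  rw [H.unique h5]
  refine mul_mem (eAt_comm_nonsing (plusForm_nondeg 4) hg₁ ha0 ?_) (eAt_comm_nonsing (plusForm_nondeg 4) hg₂ ha0 ?_)
  · rw [Q_add, hb'Q, hzQ, hb'z]
    simp
  · rw [QuadraticMap.map_neg, hzQ]
    exact one_ne_zero

theorem comm_eq : ⁅isoGroup (plusForm 4 F), isoGroup (plusForm 4 F)⁆ = eGroup (plusForm 4 F) := by
  apply le_antisymm
  · refine comm_le_eGroup (plusForm_nondeg 4) ?_ (hp (F := F)) horb
    simp
  · rw [eGroup_eq_root]
    exact rootGroup_le_comm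

theorem hmem : chevD4 ∈ [chevG2, chevB2, chevD4, chevF4, chevE6, chevE7, chevE8] := by simp

theorem pr_all : ∀ a b : I, a ≠ b → b ≠ Sum.swap a → Pr chevD4 T a b := by
  unfold Pr
  rw [nroots_eq]
  decide +kernel

theorem ab_perp : ∀ r, r < chevD4.nroots → T.J (T.a r) (T.b r) = 0 := by
  rw [nroots_eq]
  decide +kernel

theorem main_D4 : Nonempty (chevD4.group F ≃* Cfsg.POmega F (Cfsg.quadFormPlus 4 F)) := by
  have h1 : ∀ a p : I, p ≠ a → ∃ b, b ≠ p ∧ Pr chevD4 T a b := by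
    intro a p _
    obtain ⟨b, h2, h3, h4⟩ : ∃ b : I, b ≠ p ∧ a ≠ b ∧ b ≠ Sum.swap a := by
      revert a p
      decide +kernel
    exact ⟨b, h2, pr_all a b h3 h4⟩
  have h2 : ∀ a b : I, ∃ c, Pr chevD4 T a c ∧ Pr chevD4 T b c := by
    intro a b
    obtain ⟨c, h2, h3, h4, h5⟩ : ∃ c : I, a ≠ c ∧ c ≠ Sum.swap a ∧ b ≠ c ∧ c ≠ Sum.swap b := by
      revert a b
      decide +kernel
    exact ⟨c, pr_all a c h2 h3, pr_all b c h4 h5⟩
  obtain ⟨e₁⟩ := main (T := T) (Q := plusForm 4 F) chevD4 (Cfsg.Agent.Lib.Lie.AxOf.ax_of_mem hmem) good chk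
    (fun r hr => ⟨Q_bv _, by rw [polar_bv, ab_perp r hr]; simp⟩) eGroup_eq_root (fun r hr => by
      rw [nroots_eq] at hr
      simp [T, hr]) (by rw [nroots_eq]; decide +kernel) h1 h2
      (.inl 0) (Cfsg.Agent.S1054.result chevD4 (by simp)).1 (not_central hp)
  obtain ⟨e₂⟩ := pomega_equiv (plusForm 4 F) comm_eq
  exact ⟨e₁.trans e₂.symm⟩

end Cfsg.Agent.Lib.ChevOrth.D4
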